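import Mathlib

/-! Factors of homogeneous polynomials are homogeneous. -/

set_option autoImplicit false

open MvPolynomial

universe u

namespace HomogFactorLib

variable {σ : Type*} {R : Type u} [CommRing R]

/-- `X i ↦ X i * T` -/
noncomputable def scale : MvPolynomial σ R →ₐ[R] Polynomial (MvPolynomial σ R) :=
  aeval fun i => Polynomial.C (X i) * Polynomial.X

theorem coeff_scale (f : MvPolynomial σ R) (d : ℕ) :
    (scale f).coeff d = homogeneousComponent d f := by
  induction f using MvPolynomial.induction_on' with
  | monomial m a =>
    have h : scale (monomial m a) = Polynomial.C (monomial m a) * Polynomial.X ^ m.degree := by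
      rw [scale, aeval_monomial, monomial_eq, map_mul, IsScalarTower.algebraMap_apply R (MvPolynomial σ R) (Polynomial (MvPolynomial σ R))]
      simp only [Finsupp.prod, mul_pow, Finset.prod_mul_distrib, Finset.prod_pow_eq_pow_sum, map_prod, map_pow]
      rw [Polynomial.algebraMap_eq, MvPolynomial.algebraMap_eq]
      rw [Finsupp.degree_apply]
      ring
    rw [h, Polynomial.coeff_C_mul_X_pow]
    classical
    ext e
    rw [coeff_homogeneousComponent, apply_ite (coeff e), coeff_monomial, coeff_zero]
    by_cases he : m = e
    · subst he
      simp [eq_comm]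
    · simp [he]
  | add p q hp hq => simp [hp, hq]

theorem eval_one_scale (f : MvPolynomial σ R) : (scale f).eval 1 = f := by
  induction f using MvPolynomial.induction_on with
  | C a => simp [scale]
  | add p q hp hq => simp [map_add, hp, hq]
  | mul_X p i hp =>
    rw [map_mul, Polynomial.eval_mul, hp]
    simp [scale]

theorem isHomogeneous_iff (f : MvPolynomial σ R) (d : ℕ) :
    f.IsHomogeneous d ↔ scale f = Polynomial.C f * Polynomial.X ^ d := by
  constructor
  · intro h
    ext1 e
    rw [coeff_scale, Polynomial.coeff_C_mul_X_pow, homogeneousComponent_of_mem ((mem_homogeneousSubmodule d f).mpr h)]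
  · intro h
    have h1 := congrArg (Polynomial.coeff · d) h
    simp only [coeff_scale, Polynomial.coeff_C_mul_X_pow, if_true] at h1
    rw [← h1]
    exact homogeneousComponent_isHomogeneous d f

theorem exists_isHomogeneous_of_mul [IsDomain R] {f g : MvPolynomial σ R} {n : ℕ}
    (hf : f ≠ 0) (hg : g ≠ 0) (h : (f * g).IsHomogeneous n) : ∃ d, f.IsHomogeneous d := by
  rw [isHomogeneous_iff, map_mul] at h
  have hf' : scale f ≠ 0 := fun e => hf (by simpa [e] using (eval_one_scale f).symm)
  have hg' : scale g ≠ 0 := fun e => hg (by simpa [e] using (eval_one_scale g).symm)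
  have h1 := congrArg Polynomial.natDegree h
  have h2 := congrArg Polynomial.natTrailingDegree h
  rw [Polynomial.natDegree_mul hf' hg', Polynomial.natDegree_C_mul_X_pow n _ (mul_ne_zero hf hg)] at h1
  rw [Polynomial.natTrailingDegree_mul hf' hg', Polynomial.C_mul_X_pow_eq_monomial,
    Polynomial.natTrailingDegree_monomial (mul_ne_zero hf hg)] at h2
  have l1 := Polynomial.natTrailingDegree_le_natDegree (scale f)
  have l2 := Polynomial.natTrailingDegree_le_natDegree (scale g)
  refine ⟨(scale f).natDegree, (isHomogeneous_iff f _).mpr ?_⟩
  have heq : scale f = Polynomial.C ((scale f).coeff (scale f).natDegree) * Polynomial.X ^ (scale f).natDegree := by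
    ext1 e
    rw [Polynomial.coeff_C_mul_X_pow]
    split_ifs with he
    · rw [he]
    · rcases lt_or_gt_of_ne he with hlt | hgt
      · exact Polynomial.coeff_eq_zero_of_lt_natTrailingDegree (by omega)
      · exact Polynomial.coeff_eq_zero_of_natDegree_lt hgt
  have h3 : (scale f).coeff (scale f).natDegree = f := by
    conv_rhs => rw [← eval_one_scale f, heq]
    simp
  rwa [h3] at heq

end HomogFactorLib
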